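import Cfsg.Agent.H390.Cyc.SevenX
import Cfsg.Agent.H359.OEightA

/-!
# `Ω₈⁺(2)` (S3441, `A₁₀`)

An element of order `7` is rational in `Ω₈⁺(2)`, so an extension of even index contains an element of order `14`.
-/

set_option autoImplicit false

namespace Cfsg.Agent.H390.Cyc

open Cfsg Cfsg.Agent.H380.TenRec Equiv

/-- elements of order `7` rational in `S` -/
theorem false_of_rational {X : Type*} [Group X] [Finite X] (hO : Om X) {S : Subgroup X} [hn : S.Normal]
    (h49 : ¬ 49 ∣ Nat.card S) {x y : X} (hxS : x ∈ S) (hyS : y ∈ S) (hx : orderOf x = 7) (hxy : y * x * y⁻¹ = x ^ 3)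
    (h2 : 2 ∣ S.index) : False := by
  have := Fact.mk Nat.prime_two
  have h2' : 2 ∣ Nat.card (X ⧸ S) := by rwa [← Subgroup.index_eq_card]
  obtain ⟨g, hg⟩ := exists_prime_orderOf_dvd_card' 2 h2'
  have hfr := frat h49 hxS hx
  obtain ⟨n, hnT, hng⟩ : ∃ n ∈ Subgroup.normalizer ((Subgroup.zpowers x : Subgroup X) : Set X), (n : X ⧸ S) = g := by
    obtain ⟨u, rfl⟩ := QuotientGroup.mk_surjective g
    have hu : u ∈ Subgroup.normalizer ((Subgroup.zpowers x : Subgroup X) : Set X) ⊔ S := by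
      rw [sup_comm, hfr]; exact Subgroup.mem_top u
    obtain ⟨n, hn', s, hs, rfl⟩ := Subgroup.mem_sup_of_normal_right.1 hu
    refine ⟨n, hn', ?_⟩
    rw [QuotientGroup.mk_mul, (QuotientGroup.eq_one_iff s).2 hs, mul_one]
  have h1 : n * x * n⁻¹ ∈ Subgroup.zpowers x := (Subgroup.mem_normalizer_iff.1 hnT x).1 (Subgroup.mem_zpowers x)
  obtain ⟨k, hk⟩ : ∃ k : ℕ, x ^ k = n * x * n⁻¹ := by
    rw [← mem_powers_iff_mem_zpowers] at h1
    exact (Submonoid.mem_powers_iff _ _).1 h1
  obtain ⟨j, hj⟩ : ∃ j : ℕ, 3 ^ j % 7 = k % 7 := by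
    have h3 : k % 7 < 7 := Nat.mod_lt _ (by norm_num)
    have h0 : k % 7 ≠ 0 := by
      intro h0
      have h4 : x ^ k = 1 := by
        apply orderOf_dvd_iff_pow_eq_one.1
        rw [hx]
        exact Nat.dvd_of_mod_eq_zero h0
      rw [h4] at hk
      have h5 : x = 1 := by
        have := conj_eq_one_iff.1 hk.symm
        exact this
      rw [h5, orderOf_one] at hx
      norm_num at hx
    generalize k % 7 = r at h3 h0
    interval_cases r
    · exact absurd rfl h0
    · exact ⟨0, by norm_num⟩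
    · exact ⟨2, by norm_num⟩
    · exact ⟨1, by norm_num⟩
    · exact ⟨4, by norm_num⟩
    · exact ⟨5, by norm_num⟩
    · exact ⟨3, by norm_num⟩
  have h4 : y ^ j * x * (y ^ j)⁻¹ = n * x * n⁻¹ := by
    rw [pow_conj_pow hxy, ← hk, ← pow_mod_orderOf, hx, hj, ← hx, pow_mod_orderOf]
  obtain ⟨u, hu⟩ : ∃ u, u = (y ^ j)⁻¹ * n := ⟨_, rfl⟩
  have hux : Commute u x := by
    have h5 : u * x * u⁻¹ = x := by
      have h6 : u * x * u⁻¹ = (y ^ j)⁻¹ * (n * x * n⁻¹) * y ^ j := by rw [hu]; group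
      rw [h6, ← h4]; group
    exact mul_inv_eq_iff_eq_mul.1 h5
  have hug : (u : X ⧸ S) = g := by
    rw [hu, QuotientGroup.mk_mul, (QuotientGroup.eq_one_iff _).2 (S.inv_mem (S.pow_mem hyS j)), one_mul, hng]
  have hu2 : 2 ∣ orderOf u := by
    rw [← hg, ← hug]
    exact orderOf_map_dvd (QuotientGroup.mk' S) u
  exact hO.false_of_commute hux (m := 2) (n := 7) hu2 (by rw [hx]) (by norm_num) (by decide)

open Cfsg.Agent.StdO8.Model (omCongr center_eq) in
open Cfsg.Agent.LieClassical.OrthFinite in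
theorem oeight_equiv {F : Type*} [Field F] [Fintype F] (hF : Fintype.card F = 2) :
    Nonempty (Cfsg.POmega F (Cfsg.quadFormPlus 4 F) ≃* H359.OEight.Om8) := by
  have h : Fintype.card F = Fintype.card (ZMod 2) := by rw [hF, ZMod.card]
  have e : F ≃+* ZMod 2 := FiniteField.ringEquivOfCardEq h
  have e1 : Cfsg.POmega F (Cfsg.quadFormPlus 4 F) ≃* Cfsg.POmega (ZMod 2) (Cfsg.quadFormPlus 4 (ZMod 2)) :=
    quotientCenterCongr (omCongr e)
  have e2 : Cfsg.POmega (ZMod 2) (Cfsg.quadFormPlus 4 (ZMod 2)) ≃*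
      Cfsg.Omega (ZMod 2) (Cfsg.quadFormPlus 4 (ZMod 2)) :=
    (QuotientGroup.quotientMulEquivOfEq center_eq).trans QuotientGroup.quotientBot
  exact ⟨e1.trans e2⟩

/-- a cycle of length `7` -/
def x9 : alternatingGroup (Fin 9) := ⟨c[0, 1, 2, 3, 4, 5, 6], by rw [Perm.mem_alternatingGroup]; decide +kernel⟩
/-- an element inducing an automorphism of order `6` -/
def y9 : alternatingGroup (Fin 9) := ⟨c[1, 3, 2, 6, 4, 5] * c[7, 8], by rw [Perm.mem_alternatingGroup]; decide +kernel⟩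

theorem y9_x9 : y9 * x9 * y9⁻¹ = x9 ^ 3 := by
  apply Subtype.ext
  decide +kernel

theorem orderOf_x9 : orderOf x9 = 7 := by
  have := Fact.mk (show Nat.Prime 7 by norm_num)
  apply orderOf_eq_prime
  · apply Subtype.ext
    decide +kernel
  · intro h
    have := congrArg Subtype.val h
    revert this
    decide +kernel

/-- **`Ω₈⁺(2)`**: the index is odd. -/
theorem o8_false {X : Type*} [Group X] [Finite X] (hO : Om X) {S : Subgroup X} [hn : S.Normal] {F : Type*} [Field F]
    [Fintype F] (hF : Fintype.card F = 2) (e : S ≃* POmega F (quadFormPlus 4 F)) (hcard : Nat.card S = 174182400)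
    (h2 : 2 ∣ S.index) : False := by
  obtain ⟨e'⟩ := oeight_equiv hF
  let f : alternatingGroup (Fin 9) →* S := ((e.trans e').symm.toMonoidHom).comp H359.OEight.toOm
  have hf : Function.Injective f := ((e.trans e').symm.injective).comp H359.OEight.toOm_injective
  refine false_of_rational hO (by rw [hcard]; norm_num) (x := f x9) (y := f y9) (f x9).2 (f y9).2 ?_ ?_ h2
  · rw [Subgroup.orderOf_coe, orderOf_injective f hf, orderOf_x9]
  · have h3 : f y9 * f x9 * (f y9)⁻¹ = f x9 ^ 3 := by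
      rw [← map_mul, ← map_inv, ← map_mul, y9_x9, map_pow]
    exact congrArg Subtype.val h3

end Cfsg.Agent.H390.Cyc
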