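import Cfsg.Agent.H934.OutB
import Cfsg.Agent.H380.TenRec.Main
import Cfsg.Agent.S2602
import Cfsg.Agent.S0814
import Cfsg.Agent.S0815
import Cfsg.Agent.S0817
import Cfsg.Agent.S2066
import Cfsg.Agent.S2119
import Cfsg.Agent.S0254

/-!
# Orders of outer automorphism groups of simple `{2,3,5,7}`-groups (S3441, `A₁₀`)
-/

set_option autoImplicit false

namespace Cfsg.Agent.H390.Cyc

open Cfsg Cfsg.Agent.H934.OutB

universe u

/-- `|X : S|` divides `|Out S|` -/
theorem index_dvd_out {X : Type*} [Group X] [Finite X] (S : Subgroup X) [S.Normal] (hs : IsSimpleGroup S)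
    (hna : ¬ IsMulCommutative S) (hc : Subgroup.centralizer (S : Set X) = ⊥) : S.index ∣ Nat.card (Out S) := by
  have hinj : Function.Injective (MulAut.conjNormal : X →* MulAut S) := by
    rw [injective_iff_map_eq_one]
    intro g hg
    have : g ∈ Subgroup.centralizer (S : Set X) := by
      rw [Subgroup.mem_centralizer_iff]
      intro s hs
      have h1 := congrArg (fun α : MulAut S => ((α ⟨s, hs⟩ : S) : X)) hg
      have h2 : g * s * g⁻¹ = s := by
        rw [← MulAut.conjNormal_apply g (⟨s, hs⟩ : S)]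
        exact h1
      rw [mul_inv_eq_iff_eq_mul] at h2
      exact h2.symm
    rwa [hc, Subgroup.mem_bot] at this
  have h1 : Nat.card X ∣ Nat.card (MulAut S) := by
    rw [Nat.card_congr (MonoidHom.ofInjective hinj).toEquiv]
    exact Subgroup.card_subgroup_dvd_card _
  rw [← card_out_mul S hna, ← S.card_mul_index, mul_comm] at h1
  exact Nat.dvd_of_mul_dvd_mul_right Nat.card_pos h1

section

variable {K : Type u} [Group K] [Finite K] [IsSimpleGroup K] (hna : ¬ IsMulCommutative K)

include hna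

theorem out_of_model {T : Type*} [Group T] (e : Nonempty (K ≃* T)) {c : ℕ} (h : Nat.card (MulAut T) = c * Nat.card T) :
    Nat.card (Out K) = c := by
  obtain ⟨e⟩ := e
  have hfin : Finite T := Finite.of_equiv K e.toEquiv
  have hs : IsSimpleGroup T := e.symm.isSimpleGroup
  have hna' : ¬ IsMulCommutative T := by
    intro h
    apply hna
    refine ⟨⟨fun a b => e.injective ?_⟩⟩
    rw [map_mul, map_mul]
    exact h.is_comm.comm _ _
  rw [card_out_congr e]
  exact card_out_of_aut hna' h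

theorem out_alt {n : ℕ} (hn : 5 ≤ n) (h6 : n ≠ 6) (e : Nonempty (K ≃* alternatingGroup (Fin n))) :
    Nat.card (Out K) = 2 := by
  apply out_of_model hna e
  rw [H380.TenRec.card_alt (by omega), ← Nat.card_congr (Equiv.ofBijective _ (Cfsg.Agent.S2119.result n (by omega) h6)),
    Nat.card_perm, Nat.card_eq_fintype_card, Fintype.card_fin]

omit [Finite K] [IsSimpleGroup K] hna in
theorem out_psl2 {F : Type*} [Field F] [Fintype F] {p f : ℕ} [Fact p.Prime] (hf : 1 ≤ f) (hF : Fintype.card F = p ^ f)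
    (h4 : 4 ≤ p ^ f) (e : Nonempty (K ≃* Matrix.ProjectiveSpecialLinearGroup (Fin 2) F)) :
    Nat.card (Out K) = Nat.gcd 2 (p ^ f - 1) * f := by
  obtain ⟨e⟩ := e
  rw [card_out_congr e]
  obtain ⟨φ, h1, -, h2⟩ := Cfsg.Agent.S2602.result (F := F) (p := p) (f := f) hf hF h4
  have h3 := Subgroup.card_mul_index φ.ker
  rw [h2, Subgroup.index_ker, MonoidHom.range_eq_top.2 h1, Subgroup.card_top, Nat.card_congr Multiplicative.toAdd,
    Nat.card_zmod] at h3
  exact h3.symm

omit [Finite K] [IsSimpleGroup K] hna in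
theorem out_six (e : Nonempty (K ≃* alternatingGroup (Fin 6))) : Nat.card (Out K) = 4 := by
  have : Fact (Nat.Prime 3) := ⟨Nat.prime_three⟩
  have : Fintype (GaloisField 3 2) := Fintype.ofFinite _
  have hF : Fintype.card (GaloisField 3 2) = 3 ^ 2 := by
    rw [← Nat.card_eq_fintype_card]
    exact GaloisField.card 3 2 (by norm_num)
  obtain ⟨e'⟩ := Cfsg.Agent.S0254.result (F := GaloisField 3 2) (by rw [hF]; norm_num)
  obtain ⟨e⟩ := e
  rw [out_psl2 (p := 3) (f := 2) (by norm_num) hF (by norm_num) ⟨e.trans e'.symm⟩]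
  norm_num

theorem out_j2 (e : Cfsg.Spor.IsoJ2 K) : Nat.card (Out K) = 2 := by
  obtain ⟨e⟩ := e
  rw [card_out_congr e]
  exact Cfsg.Agent.S2066.result

theorem out_psp {m p : ℕ} (hp : p.Prime) (hm : 2 ≤ m) {F : Type*} [Field F] [Fintype F] (hF : Fintype.card F = p)
    (h3 : 3 ≤ p ∨ 3 ≤ m) (hp2 : ¬ (m = 2 ∧ p = 2)) (e : Nonempty (K ≃* PSp m F)) :
    Nat.card (Out K) = Nat.gcd 2 (p - 1) := by
  have := Fact.mk hp
  have h := Cfsg.Agent.S0814.result (F := F) p 1 le_rfl (by rw [hF, pow_one]) m hm (by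
    intro hm2
    rcases h3 with h | h
    · rwa [pow_one]
    · omega)
  rw [if_neg hp2, one_mul, mul_one, pow_one] at h
  exact out_of_model hna e h

theorem out_psu {n q : ℕ} (hq : q.Prime) {F : Type*} [Field F] [Fintype F] (hF : Fintype.card F = q ^ 2) (hn : 3 ≤ n)
    (h32 : ¬ (n = 3 ∧ q = 2)) (e : Nonempty (K ≃* PSU n F q)) : Nat.card (Out K) = Nat.gcd n (q + 1) * 2 := by
  have := Fact.mk hq
  have h := Cfsg.Agent.S0815.result (F := F) q 1 le_rfl (q := q) (by rw [pow_one]) hF n hn h32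
  rw [mul_one] at h
  exact out_of_model hna e h

theorem out_o8 {F : Type*} [Field F] [Fintype F] (hF : Fintype.card F = 2)
    (e : Nonempty (K ≃* POmega F (quadFormPlus 4 F))) : Nat.card (Out K) = 6 := by
  have := Fact.mk Nat.prime_two
  have h := Cfsg.Agent.S0817.result (F := F) 2 1 le_rfl (by rw [hF, pow_one]) 4 le_rfl
  rw [if_pos rfl, if_pos rfl] at h
  exact out_of_model hna e h

end

end Cfsg.Agent.H390.Cyc
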