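import Cfsg.Agent.H390.Cyc.UThree

/-!
# `U₃(5)` (S3441, `A₁₀`): the theorem
-/

set_option autoImplicit false

namespace Cfsg.Agent.H390.Cyc

open Cfsg Cfsg.Agent.H380.TenRec

/-- `3`-elements outside `S` normalizing a Sylow `2`-subgroup of order `16` -/
theorem false_of_sixteen {X : Type*} [Group X] [Finite X] (hO : Om X) {S : Subgroup X} [hn : S.Normal] {N : ℕ}
    (hcard : Nat.card S = 16 * N) (hN : ¬ 2 ∣ N) {c : S} (hc : orderOf c = 8) (h3 : 3 ∣ S.index) : False := by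
  classical
  have := Fact.mk Nat.prime_two
  have := Fact.mk Nat.prime_three
  have hcp : IsPGroup 2 (Subgroup.zpowers c) := by
    apply IsPGroup.of_card (n := 3)
    rw [Nat.card_zpowers, hc]
    norm_num
  obtain ⟨P, hP⟩ := hcp.exists_le_sylow
  have hN0 : N ≠ 0 := by rintro rfl; simp at hN
  have hPc : Nat.card P = 16 := by
    rw [P.card_eq_multiplicity, hcard, Nat.factorization_mul (by norm_num) hN0, Finsupp.add_apply,
      Nat.factorization_eq_zero_of_not_dvd hN, show 16 = 2 ^ 4 from rfl, Nat.factorization_pow, Finsupp.smul_apply,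
      Nat.Prime.factorization_self Nat.prime_two]
    rfl
  obtain ⟨T, hT⟩ : ∃ T, T = (P : Subgroup S).map S.subtype := ⟨_, rfl⟩
  have hTc : Nat.card T = 16 := by
    rw [hT, Subgroup.card_subtype, hPc]
  have hfr : Subgroup.normalizer (T : Set X) ⊔ S = ⊤ := by
    rw [hT]
    exact Sylow.normalizer_sup_eq_top P
  have hcT : (c : X) ∈ T := by
    rw [hT]
    exact ⟨c, hP (Subgroup.mem_zpowers c), rfl⟩
  -- an element of order three of the quotient
  have h3' : 3 ∣ Nat.card (X ⧸ S) := by rwa [← Subgroup.index_eq_card]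
  obtain ⟨g, hg⟩ := exists_prime_orderOf_dvd_card' 3 h3'
  obtain ⟨n, hnT, hng⟩ : ∃ n ∈ Subgroup.normalizer (T : Set X), (n : X ⧸ S) = g := by
    obtain ⟨x, rfl⟩ := QuotientGroup.mk_surjective g
    have hx : x ∈ Subgroup.normalizer (T : Set X) ⊔ S := by rw [hfr]; exact Subgroup.mem_top x
    obtain ⟨n, hn', s, hs, rfl⟩ := Subgroup.mem_sup_of_normal_right.1 hx
    refine ⟨n, hn', ?_⟩
    rw [QuotientGroup.mk_mul, (QuotientGroup.eq_one_iff s).2 hs, mul_one]
  have hn0 : orderOf n ≠ 0 := (orderOf_pos n).ne'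
  obtain ⟨a, m, hm3, hnm⟩ := Nat.exists_eq_pow_mul_and_not_dvd hn0 3 (by norm_num)
  obtain ⟨w, hw⟩ : ∃ w, w = n ^ m := ⟨_, rfl⟩
  have hwT : w ∈ Subgroup.normalizer (T : Set X) := by
    rw [hw]
    exact Subgroup.pow_mem _ hnT m
  have hw3 : w ^ 3 ^ a = 1 := by
    rw [hw, ← pow_mul, mul_comm, ← hnm, pow_orderOf_eq_one]
  have hw1 : w ≠ 1 := by
    intro h
    have h1 : g ^ m = 1 := by
      rw [← hng, ← QuotientGroup.mk_pow, ← hw, h]; rfl
    exact hm3 (hg ▸ orderOf_dvd_of_pow_eq_one h1)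
  have hw3' : 3 ∣ orderOf w := by
    obtain ⟨k, -, hk⟩ := (Nat.dvd_prime_pow Nat.prime_three).1 (orderOf_dvd_of_pow_eq_one hw3)
    have hk0 : k ≠ 0 := by
      rintro rfl
      rw [pow_zero, orderOf_eq_one_iff] at hk
      exact hw1 hk
    rw [hk]
    exact dvd_pow_self 3 hk0
  let ρ : Subgroup.normalizer (T : Set X) →* MulAut T := T.normalizerMonoidHom
  have hρ : ∀ (g : Subgroup.normalizer (T : Set X)) (v : T), ((ρ g v : T) : X) = g * v * (g : X)⁻¹ := fun _ _ => rfl
  have hfix := fix_eight (T := T) hTc (c := ⟨c, hcT⟩) (by rw [← hc, ← Subgroup.orderOf_coe, ← Subgroup.orderOf_coe c])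
    (ρ ⟨w, hwT⟩) (n := 3 ^ a) (Odd.pow (by decide)) (by
      rw [← map_pow]
      have : (⟨w, hwT⟩ : Subgroup.normalizer (T : Set X)) ^ 3 ^ a = 1 := Subtype.ext hw3
      rw [this, map_one])
  have hcomm : Commute w (c : X) := by
    have h1 := congrArg Subtype.val hfix
    rw [hρ] at h1
    exact mul_inv_eq_iff_eq_mul.1 h1
  exact hO.false_of_commute hcomm (m := 3) (n := 8) hw3' (by rw [Subgroup.orderOf_coe, hc]) (by norm_num) (by decide)

/-- **`U₃(5)` is impossible.** -/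
theorem u35_false {X : Type*} [Group X] [Finite X] (hO : Om X) {S : Subgroup X} [hn : S.Normal] {F : Type*} [Field F]
    [Fintype F] (hF : Fintype.card F = 25) (e : S ≃* PSU 3 F 5) (hcard : Nat.card S = 126000) (h3 : 3 ∣ S.index) :
    False := by
  have := Fact.mk Nat.prime_five
  have hF' : Fintype.card F = 5 ^ 2 := by rw [hF]; norm_num
  have hch : CharP F 5 := charP_of_card_eq_prime_pow hF'
  obtain ⟨B, U, c, w, hro⟩ := Cfsg.Agent.H188.Der.exists_ro (p := 5) hF' (by norm_num)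
  have hN : (5 ^ 2 - 1) / Nat.gcd 3 (5 + 1) = 8 := by decide
  have hoc := hro.oc
  rw [hN] at hoc
  exact false_of_sixteen hO (N := 7875) (by rw [hcard]) (by norm_num) (c := e.symm c) (by rw [MulEquiv.orderOf_eq, hoc]) h3

end Cfsg.Agent.H390.Cyc
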