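import Cfsg.Agent.H390.Cyc.ATen
import Cfsg.Agent.H376.Cyc.Frame

/-!
# S3441: the case `L = A₁₀` (helper390)

`a10` : the conclusion of S3441 for `ω(G) = ω(A₁₀)`.
-/

set_option autoImplicit false

namespace Cfsg.Agent.H390.Cyc.A10

open Cfsg Cfsg.Agent.H380.TenRec Cfsg.Agent.H414.Vasiliev Cfsg.Agent.H414.Spec Cfsg.Agent.H414.Comp
  Cfsg.Agent.H414.Rad

theorem a10 {G : Type*} [Group G] [Finite G] (hG : ¬ Group.IsSolvable G)
    (h : Set.range (orderOf : G → ℕ) = Set.range (orderOf : alternatingGroup (Fin 10) → ℕ)) :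
    Cfsg.Agent.H376.Cyc.Concl G := by
  obtain ⟨K, hKn, hK, hKmax⟩ := exists_radical G
  have hr := h
  rw [Cfsg.Agent.H380.AltSpec.range_ten] at hr
  have o7 : ∃ g : G, orderOf g = 7 := by
    have h1 : 7 ∈ Set.range (orderOf : G → ℕ) := by
      rw [hr]
      exact (by decide : 7 ∈ L)
    exact h1
  have o14 : ¬ ∃ g : G, orderOf g = 2 * 7 := by
    rintro ⟨g, hg⟩
    have h1 : orderOf g ∈ Set.range (orderOf : G → ℕ) := ⟨g, rfl⟩
    rw [hr, hg] at h1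
    exact absurd h1 (by decide : ¬ 2 * 7 ∈ L)
  have h7 : 7 ∣ Nat.card G := by
    obtain ⟨g, hg⟩ := o7
    exact hg ▸ orderOf_dvd_natCard g
  obtain ⟨S, hS, hSn, hSc, h⟩ := exists_socle hG (by norm_num : Nat.Prime 7) (by norm_num) h7 o14 K hK hKmax
  exact Cfsg.Agent.H376.Cyc.concl_of_socle K hK hKmax S hS.simple hS.noncomm hSc
    (core ‹_› K hK S hS.simple (Cfsg.Agent.H376.Cyc.not_comm_iff.mp hS.noncomm) hSc h)

end Cfsg.Agent.H390.Cyc.A10
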