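import Cfsg.Agent.H390.Cyc.SevenX

/-!
# Groups with the element orders of `A₁₀` and a section `L₃(4)` (S3441)
-/

set_option autoImplicit false

namespace Cfsg.Agent.H390.Cyc.LFour

open Matrix Cfsg.Agent.H380.TenRec Cfsg.Agent.H380.TenRec.MatThree
open Cfsg.Agent.ClassicalGeometry.AutPSL.Root Cfsg.Agent.ClassicalGeometry.AutPSL.Auto
open Cfsg.Agent.ClassicalGeometry.AutPSL.Main Cfsg.Agent.Schreier.ClassPSL

universe u

section seven

variable {F : Type} [Field F] [Fintype F] {X : Type*} [Group X] [Finite X] {S : Subgroup X} [hn : S.Normal]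
  (e : S ≃* Matrix.ProjectiveSpecialLinearGroup (Fin 3) F) (hF : Fintype.card F = 4)

include e hF

theorem seven_elts : ∃ x z : X, x ∈ S ∧ orderOf x = 7 ∧ z * x * z⁻¹ = x ^ 2 := by
  have h20 := two_eq hF
  have hch : CharP F 2 := CharTwo.of_one_ne_zero_of_two_eq_zero one_ne_zero h20
  let f : Matrix.SpecialLinearGroup (Fin 3) (ZMod 2) →* Matrix.ProjectiveSpecialLinearGroup (Fin 3) F :=
    pr.comp (Matrix.SpecialLinearGroup.map (ZMod.castHom (dvd_refl 2) F))
  refine ⟨(e.symm (f c2) : S), (e.symm (f z2) : S), (e.symm (f c2) : S).2, ?_, ?_⟩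
  · rw [Subgroup.orderOf_coe, MulEquiv.orderOf_eq]
    have := Fact.mk (show Nat.Prime 7 by norm_num)
    apply orderOf_eq_prime
    · rw [← map_pow, c2_pow, map_one]
    · apply pr_ne_one (i := 1) (j := 0) (by decide)
      change (ZMod.castHom (dvd_refl 2) F) ((c2 : Matrix (Fin 3) (Fin 3) (ZMod 2)) 1 0) ≠ 0
      have : (c2 : Matrix (Fin 3) (Fin 3) (ZMod 2)) 1 0 = 1 := rfl
      rw [this, map_one]
      exact one_ne_zero
  · have h3 : e.symm (f z2) * e.symm (f c2) * (e.symm (f z2))⁻¹ = e.symm (f c2) ^ 2 := by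
      rw [mul_inv_eq_iff_eq_mul, ← map_pow, ← map_mul, ← map_mul, ← map_mul, ← map_pow, ← map_mul, z2_c2]
    exact congrArg Subtype.val h3

variable (hO : Om X) (hcard : Nat.card S = 20160) (hc : Subgroup.centralizer (S : Set X) = ⊥) (hcyc : ¬ IsCyclic (X ⧸ S))

include hO hcard

theorem not_four : ¬ 4 ∣ S.index := by
  obtain ⟨x, z, hxS, hx, -⟩ := seven_elts e hF
  exact index_four hO (by rw [hcard]; decide) hxS hx

include hc hcyc

/-- an automorphism of order six of a Sylow `7`-subgroup -/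
theorem seven_cube : ∃ x y : X, x ∈ S ∧ orderOf x = 7 ∧ y * x * y⁻¹ = x ^ 3 := by
  obtain ⟨x', z', hxS, hxo, hzx⟩ := seven_elts e hF
  have h49 : ¬ 49 ∣ Nat.card S := by rw [hcard]; decide
  obtain ⟨t, ht⟩ := exists_inv hO h49 hxS hxo (even_index e hc hcyc hF (not_four e hF hO hcard))
  obtain ⟨u, hu'⟩ : ∃ u, u = t * z' := ⟨_, rfl⟩
  have hu : u * x' * u⁻¹ = x' ^ 5 := by
    have h3 : u * x' * u⁻¹ = t * (z' * x' * z'⁻¹) * t⁻¹ := by rw [hu']; group
    rw [h3, hzx, ← conj_pow, ht, inv_pow, inv_eq_iff_mul_eq_one, ← pow_add, show 2 + 5 = 7 from rfl, ← hxo]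
    exact pow_orderOf_eq_one x'
  refine ⟨x', u ^ 5, hxS, hxo, ?_⟩
  have h3 : ∀ i : ℕ, u ^ i * x' * (u ^ i)⁻¹ = x' ^ 5 ^ i := by
    intro i
    induction i with
    | zero => simp
    | succ i ih =>
      have h1 : u ^ (i + 1) * x' * (u ^ (i + 1))⁻¹ = u * (u ^ i * x' * (u ^ i)⁻¹) * u⁻¹ := by
        rw [pow_succ']; group
      rw [h1, ih, ← conj_pow, hu, ← pow_mul]
      congr 1
      rw [pow_succ]; ring
  rw [h3]
  have h8 : 5 ^ 5 % 7 = 3 % 7 := by norm_num
  rw [← pow_mod_orderOf, hxo, h8]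

end seven

/-- `G` has no other element orders than `A₁₀`, `R` is a solvable normal `7'`-subgroup and `G / R` an almost simple group
with socle `L₃(4)` and noncyclic outer part -/
structure Sit (F : Type) [Field F] [Fintype F] (G : Type u) [Group G] [Finite G] (R : Subgroup G) [R.Normal]
    (S : Subgroup (G ⧸ R)) [S.Normal] : Prop where
  om : Om G
  solv : Group.IsSolvable R
  seven : ¬ 7 ∣ Nat.card R
  simp : IsSimpleGroup S
  cent : Subgroup.centralizer (S : Set (G ⧸ R)) = ⊥
  iso : Nonempty (S ≃* Matrix.ProjectiveSpecialLinearGroup (Fin 3) F)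
  card : Nat.card S = 20160
  cyc : ¬ IsCyclic ((G ⧸ R) ⧸ S)

section transport

variable {F : Type} [Field F] [Fintype F] {G : Type u} [Group G] [Finite G] {R : Subgroup G} [R.Normal]
    {S : Subgroup (G ⧸ R)} [S.Normal]

theorem Sit.quot (h : Sit F G R S) (V : Subgroup G) [V.Normal] (hV : V ≤ R) :
    ∃ (S' : Subgroup ((G ⧸ V) ⧸ R.map (QuotientGroup.mk' V))) (_ : S'.Normal),
      Sit F (G ⧸ V) (R.map (QuotientGroup.mk' V)) S' := by
  let E := QuotientGroup.quotientQuotientEquivQuotient V R hV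
  let S' : Subgroup ((G ⧸ V) ⧸ R.map (QuotientGroup.mk' V)) := S.map E.symm.toMonoidHom
  have hn : S'.Normal := Subgroup.Normal.map inferInstance _ E.symm.surjective
  have ψ : S ≃* S' := E.symm.subgroupMap S
  have hmap : S'.map E.toMonoidHom = S := by
    rw [Subgroup.map_map]
    have : E.toMonoidHom.comp E.symm.toMonoidHom = MonoidHom.id _ := by
      apply MonoidHom.ext
      intro x
      exact E.apply_symm_apply x
    rw [this, Subgroup.map_id]
  refine ⟨S', hn, ?_, ?_, ?_, ?_, ?_, ?_, ?_, ?_⟩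
  · exact h.om.quotient V
  · have : Group.IsSolvable R := h.solv
    exact Group.isSolvable_of_surjective ((QuotientGroup.mk' V).subgroupMap_surjective R)
  · intro hd
    exact h.seven (hd.trans (Subgroup.card_map_dvd R _))
  · have := h.simp
    exact ψ.symm.isSimpleGroup
  · rw [eq_bot_iff]
    intro g hg
    rw [Subgroup.mem_centralizer_iff] at hg
    have h1 : E g ∈ Subgroup.centralizer (S : Set (G ⧸ R)) := by
      rw [Subgroup.mem_centralizer_iff]
      intro s hs
      have h2 := hg (E.symm s) ⟨s, hs, rfl⟩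
      have h3 := congrArg E h2
      rwa [map_mul, map_mul, E.apply_symm_apply] at h3
    rw [h.cent, Subgroup.mem_bot] at h1
    rw [Subgroup.mem_bot]
    exact E.injective (h1.trans (map_one E).symm)
  · obtain ⟨e⟩ := h.iso
    exact ⟨ψ.symm.trans e⟩
  · rw [← h.card]
    exact (Nat.card_congr ψ.toEquiv).symm
  · intro hcyc
    apply h.cyc
    have φ : ((G ⧸ V) ⧸ R.map (QuotientGroup.mk' V)) ⧸ S' ≃* (G ⧸ R) ⧸ S := QuotientGroup.congr S' S E hmap
    exact isCyclic_of_surjective φ φ.surjective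

/-- elements of order `7` centralize `R` when `R` has odd order -/
theorem Sit.odd (h : Sit F G R S) (hF : Fintype.card F = 4) (h2 : ¬ 2 ∣ Nat.card R) :
    (∀ r ∈ R, r ^ 3 = 1) ∧ S ≤ (Subgroup.centralizer (R : Set G)).map (QuotientGroup.mk' R) ∧
      ∀ g : G, orderOf g ≠ 9 := by
  obtain ⟨e⟩ := h.iso
  obtain ⟨x', y', hx'S, hxo, hy⟩ := seven_cube e hF (h.om.quotient R) h.card h.cent h.cyc
  obtain ⟨x, y, hxx, hx, hyx⟩ := lift_frob R h.seven hxo hy
  have hcen := central h.om R h.solv h.seven h2 hx hyx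
  have hR3 := pow_three_of_central h.om R h.seven h2 hx hcen
  have hxR : x ∉ R := by
    intro hxR
    have : x' = 1 := by rw [← hxx]; exact (QuotientGroup.eq_one_iff x).2 hxR
    rw [this, orderOf_one] at hxo
    norm_num at hxo
  have hSC := le_map_centralizer R inferInstance h.simp h.cent hxR hcen
  refine ⟨hR3, hSC, fun g hg => ?_⟩
  exact false_of_nine h.om R hR3 hSC (fun v hv => l34_nine inferInstance h.cent hF e v hv) hg

/-- `R` has odd order -/
theorem odd_R (hF : Fintype.card F = 4) : ∀ (n : ℕ) {G : Type u} [Group G] [Finite G] {R : Subgroup G} [R.Normal]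
    {S : Subgroup (G ⧸ R)} [S.Normal], Sit F G R S → Nat.card R = n → ¬ 2 ∣ Nat.card R := by
  intro n
  induction n using Nat.strong_induction_on with
  | _ n ih =>
    intro G _ _ R _ S _ h hn h2
    have hR1 : R ≠ ⊥ := by
      rintro rfl
      rw [Subgroup.card_bot] at h2
      exact absurd h2 (by norm_num)
    obtain ⟨p, V, hp, hVn, hVR, hV1, hVc, hVp⟩ := exists_normal_elem R hR1 h.solv
    obtain ⟨S', hS'n, h'⟩ := h.quot V hVR
    have hVcard : Nat.card (R.map (QuotientGroup.mk' V)) * Nat.card V = Nat.card R := by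
      have h3 := card_comap_mk V (R.map (QuotientGroup.mk' V))
      rw [Subgroup.comap_map_eq, QuotientGroup.ker_mk', sup_eq_left.2 hVR] at h3
      exact h3.symm
    have hV2 : 1 < Nat.card V := by
      rcases Nat.lt_or_ge 1 (Nat.card V) with h3 | h3
      · exact h3
      · exact absurd (Subgroup.card_eq_one.1 (le_antisymm h3 Nat.card_pos)) hV1
    have hlt : Nat.card (R.map (QuotientGroup.mk' V)) < n := by
      rw [← hn, ← hVcard]
      exact lt_mul_of_one_lt_right Nat.card_pos hV2
    have hodd := ih _ hlt h' rfl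
    obtain ⟨hR3, hSC, hno9⟩ := h'.odd hF hodd
    -- `V` is a `2`-group
    have h2V : 2 ∣ Nat.card V := by
      rw [← hVcard] at h2
      exact (Nat.prime_two.dvd_mul.1 h2).resolve_left hodd
    have hf2 := Fact.mk Nat.prime_two
    have hp2 : p = 2 := by
      obtain ⟨v, hv⟩ := exists_prime_orderOf_dvd_card' 2 h2V
      have h3 : orderOf (v : G) ∣ p := orderOf_dvd_of_pow_eq_one (hVp v v.2)
      rw [Subgroup.orderOf_coe, hv] at h3
      exact ((Nat.prime_dvd_prime_iff_eq Nat.prime_two hp).1 h3).symm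
    subst hp2
    obtain ⟨e⟩ := h'.iso
    have hX := h'.om.quotient (R.map (QuotientGroup.mk' V))
    obtain ⟨a, s, c, t, hsS, hc1, ha, hsa, hsa', hac, hc3, hs3, hcs, htc, hts, ht, ht4⟩ :=
      exists_oct e h'.cent h'.cyc hF (not_four e hF hX h'.card)
    obtain ⟨c1, s1, t1, k1, k2, k3, k4, k5, k6, k7⟩ := lift_oct (R.map (QuotientGroup.mk' V)) hR3 hno9 hSC hsS ht4 ha hsa hsa'
      hac hc3 hs3 hcs htc hts ht
    obtain ⟨c', hc'⟩ := QuotientGroup.mk_surjective c1
    have hc'R : c' ∉ R := by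
      intro hc'R
      have h3 : c1 ∈ R.map (QuotientGroup.mk' V) := ⟨c', hc'R, hc'⟩
      have h4 : c ^ 2 = 1 := by
        rw [← k7]
        exact (QuotientGroup.eq_one_iff c1).2 h3
      apply hc1
      rw [pow_succ, h4, one_mul] at hc3
      exact hc3
    have hne : ∃ c' : G, (c' : G ⧸ V) = c1 ∧ ∃ v ∈ V, c' * v ≠ v * c' := by
      refine ⟨c', hc', ?_⟩
      by_contra hcon
      push Not at hcon
      -- the centralizer of `V`
      have hcV : c' ∈ Subgroup.centralizer (V : Set G) := by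
        rw [Subgroup.mem_centralizer_iff]
        intro v hv
        exact (hcon v hv).symm
      have hCn : ((Subgroup.centralizer (V : Set G)).map (QuotientGroup.mk' R)).Normal :=
        Subgroup.Normal.map inferInstance _ (QuotientGroup.mk'_surjective R)
      have h7S : 7 ∣ Nat.card S := by rw [h.card]; norm_num
      have h7 : 7 ∣ Nat.card (Subgroup.centralizer (V : Set G)) := by
        rcases normal_dich inferInstance h.simp h.cent _ hCn with h3 | h3
        · exfalso
          apply hc'R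
          have h4 : QuotientGroup.mk' R c' ∈ (Subgroup.centralizer (V : Set G)).map (QuotientGroup.mk' R) :=
            ⟨c', hcV, rfl⟩
          rw [h3, Subgroup.mem_bot] at h4
          exact (QuotientGroup.eq_one_iff c').1 h4
        · exact (h7S.trans (Subgroup.card_dvd_of_le h3)).trans (Subgroup.card_map_dvd _ _)
      have hf7 := Fact.mk (show Nat.Prime 7 by norm_num)
      obtain ⟨x, hx⟩ := exists_prime_orderOf_dvd_card' 7 h7
      obtain ⟨v, hv⟩ := exists_prime_orderOf_dvd_card' 2 h2V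
      have hcomm : Commute (x : G) (v : G) := ((Subgroup.mem_centralizer_iff.1 x.2) v v.2).symm
      exact h.om.false_of_commute hcomm (m := 7) (n := 2) (by rw [Subgroup.orderOf_coe, hx])
        (by rw [Subgroup.orderOf_coe, hv]) (by norm_num) (by decide)
    obtain ⟨g, hg, hg8⟩ := exists_sixteen V hVc hVp k1 k2 k3 k4 k5 k6 hne
    have h8 : g ^ 8 ∈ V := by
      rw [← QuotientGroup.eq_one_iff, QuotientGroup.mk_pow, hg, k6]
    have h16 : orderOf g ∣ 2 ^ (3 + 1) := by
      apply orderOf_dvd_of_pow_eq_one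
      have h3 := hVp _ h8
      rw [← pow_mul] at h3
      exact h3
    have h17 : orderOf g = 2 ^ (3 + 1) := orderOf_eq_prime_pow (by
      intro h3
      exact hg8 h3) (by
      have h3 := hVp _ h8
      rw [← pow_mul] at h3
      exact h3)
    have h18 := h.om g
    rw [h17] at h18
    revert h18
    decide

/-- **`L₃(4)` is impossible.** -/
theorem Sit.false (h : Sit F G R S) (hF : Fintype.card F = 4) (h9 : ∃ g : G, orderOf g = 9) : False := by
  obtain ⟨g, hg⟩ := h9
  exact (h.odd hF (odd_R hF _ h rfl)).2.2 g hg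

end transport

end Cfsg.Agent.H390.Cyc.LFour
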