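import Cfsg.Agent.H380.TenRec.MatThree
import Cfsg.Agent.Schreier.ClassPSL

/-!
# `3² : 8` in `L₃(4) : S₃`: matrices (S3441, `A₁₀`)
-/

set_option autoImplicit false

namespace Cfsg.Agent.H390.Cyc.LFour

open Matrix Cfsg.Agent.H380.TenRec.MatThree
open Cfsg.Agent.ClassicalGeometry.AutPSL.Root Cfsg.Agent.ClassicalGeometry.AutPSL.Auto
open Cfsg.Agent.ClassicalGeometry.AutPSL.Main Cfsg.Agent.Schreier.ClassPSL

variable {F : Type*} [Field F]

/-- automorphisms of `SL` defined by proportional matrices -/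
theorem cj_eq_of_smul {A B : GL (Fin 3) F} {r : F} (h : (A : Matrix (Fin 3) (Fin 3) F) = r • (B : Matrix (Fin 3) (Fin 3) F)) :
    cj A = cj B := by
  have h1 : cj (A * B⁻¹) = 1 := by
    apply cj_eq_one_of_scalar (r := r)
    rw [Units.val_mul, h, smul_mul_assoc, ← Units.val_mul, mul_inv_cancel, Units.val_one, scalar_apply,
      ← smul_one_eq_diagonal]
  rw [map_mul, map_inv] at h1
  exact mul_inv_eq_one.1 h1

section mats

variable (w : F)

def mD : Matrix (Fin 3) (Fin 3) F := !![1, 0, 0; 0, 1, 0; 0, 0, w]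
def mS : Matrix (Fin 3) (Fin 3) F := !![0, 0, 1; 1, 0, 0; 0, 1, 0]
def mS' : Matrix (Fin 3) (Fin 3) F := !![0, 1, 0; 0, 0, 1; 1, 0, 0]
def mC : Matrix (Fin 3) (Fin 3) F := !![w ^ 2, 0, 0; 0, 1, 0; 0, 0, w]
def mC' : Matrix (Fin 3) (Fin 3) F := !![w, 0, 0; 0, 1, 0; 0, 0, w ^ 2]
def mM : Matrix (Fin 3) (Fin 3) F := !![1, 1, w; 1, w, 1; 1, w ^ 2, w ^ 2]
def mMi : Matrix (Fin 3) (Fin 3) F := !![1, 1, 1; 1, w ^ 2, w; w ^ 2, 1, w]
def mN : Matrix (Fin 3) (Fin 3) F := !![1, 1, w ^ 2; 1, w ^ 2, 1; 1, w, w]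
def mNi : Matrix (Fin 3) (Fin 3) F := !![1, 1, 1; 1, w, w ^ 2; w, 1, w ^ 2]

variable {w} (hw : w ^ 2 + w + 1 = 0) (h2 : (2 : F) = 0)

include hw in
theorem w3 : w ^ 3 = 1 := by linear_combination (w - 1) * hw

include hw in
theorem mD_inv : mD w * mD (w ^ 2) = 1 := by
  ext i j
  fin_cases i <;> fin_cases j <;> simp [mD, Matrix.mul_apply, Fin.sum_univ_three]
  all_goals grind

include hw in
theorem mD_inv' : mD (w ^ 2) * mD w = 1 := by
  ext i j
  fin_cases i <;> fin_cases j <;> simp [mD, Matrix.mul_apply, Fin.sum_univ_three]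
  all_goals grind

theorem mS_inv : (mS : Matrix (Fin 3) (Fin 3) F) * mS' = 1 := by
  ext i j
  fin_cases i <;> fin_cases j <;> simp [mS, mS', Matrix.mul_apply, Fin.sum_univ_three]

theorem mS_inv' : (mS' : Matrix (Fin 3) (Fin 3) F) * mS = 1 := by
  ext i j
  fin_cases i <;> fin_cases j <;> simp [mS, mS', Matrix.mul_apply, Fin.sum_univ_three]

include hw in
theorem mC_inv : mC w * mC' w = 1 := by
  ext i j
  fin_cases i <;> fin_cases j <;> simp [mC, mC', Matrix.mul_apply, Fin.sum_univ_three]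
  all_goals grind

include hw in
theorem mC_inv' : mC' w * mC w = 1 := by
  ext i j
  fin_cases i <;> fin_cases j <;> simp [mC, mC', Matrix.mul_apply, Fin.sum_univ_three]
  all_goals grind

include hw h2 in
theorem mM_inv : mM w * mMi w = 1 := by
  ext i j
  fin_cases i <;> fin_cases j <;> simp [mM, mMi, Matrix.mul_apply, Fin.sum_univ_three]
  all_goals grind

include hw h2 in
theorem mM_inv' : mMi w * mM w = 1 := by
  ext i j
  fin_cases i <;> fin_cases j <;> simp [mM, mMi, Matrix.mul_apply, Fin.sum_univ_three]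
  all_goals grind

include hw h2 in
theorem mN_inv : mN w * mNi w = 1 := by
  ext i j
  fin_cases i <;> fin_cases j <;> simp [mN, mNi, Matrix.mul_apply, Fin.sum_univ_three]
  all_goals grind

include hw h2 in
theorem mN_inv' : mNi w * mN w = 1 := by
  ext i j
  fin_cases i <;> fin_cases j <;> simp [mN, mNi, Matrix.mul_apply, Fin.sum_univ_three]
  all_goals grind

include hw in
theorem rel_D : mD w * mS = mC w * mS * mD w := by
  ext i j
  fin_cases i <;> fin_cases j <;> simp [mD, mS, mC, Matrix.mul_apply, Fin.sum_univ_three]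
  all_goals grind

include hw in
theorem rel_CS : mC w * mS = w • (mS * mC w) := by
  ext i j
  fin_cases i <;> fin_cases j <;> simp [mS, mC, Matrix.mul_apply, Fin.sum_univ_three]
  all_goals grind

include hw h2 in
theorem rel_M1 : mM w * mC' w = w • (mS * mM w) := by
  ext i j
  fin_cases i <;> fin_cases j <;> simp [mS, mM, mC', Matrix.mul_apply, Fin.sum_univ_three]
  all_goals grind

include hw h2 in
theorem rel_M2 : mM w * mS = w • (mC w * mS * mS * mM w) := by
  ext i j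
  fin_cases i <;> fin_cases j <;> simp [mS, mM, mC, Matrix.mul_apply, Fin.sum_univ_three]
  all_goals grind

include hw h2 in
theorem rel_MN : mM w * mN w = !![w, 1, 1; w, w, w ^ 2; 1, w, 1] := by
  ext i j
  fin_cases i <;> fin_cases j <;> simp [mN, mM, Matrix.mul_apply, Fin.sum_univ_three]
  all_goals grind

include hw h2 in
theorem rel_MN2 : (!![w, 1, 1; w, w, w ^ 2; 1, w, 1] * !![w, 1, 1; w, w, w ^ 2; 1, w, 1] : Matrix (Fin 3) (Fin 3) F) =
    !![0, w, 0; w ^ 2, 0, 0; 0, 0, 1] := by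
  ext i j
  fin_cases i <;> fin_cases j <;> simp [Matrix.mul_apply, Fin.sum_univ_three]
  all_goals grind

include hw in
theorem rel_MN4 : (!![0, w, 0; w ^ 2, 0, 0; 0, 0, 1] * !![0, w, 0; w ^ 2, 0, 0; 0, 0, 1] : Matrix (Fin 3) (Fin 3) F) = 1 := by
  ext i j
  fin_cases i <;> fin_cases j <;> simp [Matrix.mul_apply, Fin.sum_univ_three]
  all_goals grind

include hw in
theorem rel_C3 : mC w * mC w * mC w = 1 := by
  ext i j
  fin_cases i <;> fin_cases j <;> simp [mC, Matrix.mul_apply, Fin.sum_univ_three]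
  all_goals grind

theorem rel_S3 : (mS * mS * mS : Matrix (Fin 3) (Fin 3) F) = 1 := by
  ext i j
  fin_cases i <;> fin_cases j <;> simp [mS, Matrix.mul_apply, Fin.sum_univ_three]

include hw in
theorem det_C : (mC w).det = 1 := by
  simp [mC, Matrix.det_fin_three]
  grind

theorem det_S : (mS : Matrix (Fin 3) (Fin 3) F).det = 1 := by
  simp [mS, Matrix.det_fin_three]

theorem det_D : (mD w).det = w := by
  simp [mD, Matrix.det_fin_three]

/-! ### elements of `GL` -/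

/-- `diag(1, 1, w)` -/
def gD (hw : w ^ 2 + w + 1 = 0) : GL (Fin 3) F := ⟨mD w, mD (w ^ 2), mD_inv hw, mD_inv' hw⟩
/-- permutation matrix -/
def gS : GL (Fin 3) F := ⟨mS, mS', mS_inv, mS_inv'⟩
def gC (hw : w ^ 2 + w + 1 = 0) : GL (Fin 3) F := ⟨mC w, mC' w, mC_inv hw, mC_inv' hw⟩
def gC' (hw : w ^ 2 + w + 1 = 0) : GL (Fin 3) F := ⟨mC' w, mC w, mC_inv' hw, mC_inv hw⟩
def gM (hw : w ^ 2 + w + 1 = 0) (h2 : (2 : F) = 0) : GL (Fin 3) F := ⟨mM w, mMi w, mM_inv hw h2, mM_inv' hw h2⟩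
def gN (hw : w ^ 2 + w + 1 = 0) (h2 : (2 : F) = 0) : GL (Fin 3) F := ⟨mN w, mNi w, mN_inv hw h2, mN_inv' hw h2⟩

theorem cj_rel_D : cj (gD hw) * cj gS = cj (gC hw) * cj gS * cj (gD hw) := by
  rw [← map_mul, ← map_mul, ← map_mul]
  congr 1
  apply Units.ext
  exact rel_D hw

theorem cj_rel_CS : cj (gC hw) * cj gS = cj gS * cj (gC hw) := by
  rw [← map_mul, ← map_mul]
  apply cj_eq_of_smul (r := w)
  exact rel_CS hw

theorem cj_C3 : cj (gC hw) ^ 3 = 1 := by
  rw [← map_pow, show gC hw ^ 3 = 1 from ?_, map_one]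
  apply Units.ext
  rw [pow_succ, pow_two]
  exact rel_C3 hw

theorem cj_S3 : (cj gS : MulAut (Matrix.SpecialLinearGroup (Fin 3) F)) ^ 3 = 1 := by
  rw [← map_pow, show (gS : GL (Fin 3) F) ^ 3 = 1 from ?_, map_one]
  apply Units.ext
  rw [pow_succ, pow_two]
  exact rel_S3

section psi

variable {ψ : MulAut (Matrix.SpecialLinearGroup (Fin 3) F)} (h1 : ψ * cj (gC hw) = cj (gC' hw) * ψ)
  (h3 : ψ * cj gS = cj gS * ψ) (h4 : ψ * cj (gM hw h2) = cj (gN hw h2) * ψ) (h5 : ψ * ψ = 1)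

include h1 in
theorem T_C : cj (gM hw h2) * ψ * cj (gC hw) = cj gS * (cj (gM hw h2) * ψ) := by
  rw [mul_assoc, h1, ← mul_assoc, ← mul_assoc, ← map_mul, ← map_mul]
  congr 1
  apply cj_eq_of_smul (r := w)
  exact rel_M1 hw h2

include h3 in
theorem T_S : cj (gM hw h2) * ψ * cj gS = cj (gC hw) * cj gS ^ 2 * (cj (gM hw h2) * ψ) := by
  rw [mul_assoc, h3, ← mul_assoc, ← mul_assoc, ← map_pow, ← map_mul, ← map_mul, ← map_mul]
  congr 1
  apply cj_eq_of_smul (r := w)
  change mM w * mS = w • (mC w * ((gS ^ 2 : GL (Fin 3) F) : Matrix (Fin 3) (Fin 3) F) * mM w)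
  have : ((gS ^ 2 : GL (Fin 3) F) : Matrix (Fin 3) (Fin 3) F) = mS * mS := by
    rw [Units.val_pow_eq_pow_val, pow_two]; rfl
  rw [this, rel_M2 hw h2]
  simp only [mul_assoc]

include h4 h5 in
theorem T_8 : (cj (gM hw h2) * ψ) ^ 8 = 1 := by
  have e : (cj (gM hw h2) * ψ) ^ 2 = cj (gM hw h2 * gN hw h2) := by
    rw [pow_two, mul_assoc, ← mul_assoc ψ, h4, mul_assoc (cj (gN hw h2)), h5, mul_one, map_mul]
  rw [show 8 = 2 * 4 from rfl, pow_mul, e, ← map_pow, show (gM hw h2 * gN hw h2) ^ 4 = 1 from ?_, map_one]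
  have e1 : ((gM hw h2 * gN hw h2 : GL (Fin 3) F) : Matrix (Fin 3) (Fin 3) F) = !![w, 1, 1; w, w, w ^ 2; 1, w, 1] :=
    rel_MN hw h2
  apply Units.ext
  rw [Units.val_pow_eq_pow_val, e1, show 4 = 2 * 2 from rfl, pow_mul, pow_two !![w, 1, 1; w, w, w ^ 2; 1, w, 1],
    rel_MN2 hw h2, pow_two, rel_MN4 hw]
  rfl

end psi

/-! ### the Frobenius automorphism and inverse transpose -/

theorem itr_rel : (itr * cj (gC hw) = cj (gC' hw) * itr) ∧ ((itr * cj gS : MulAut (Matrix.SpecialLinearGroup (Fin 3) F)) = cj gS * itr) ∧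
    (itr * cj (gM hw h2) = cj (gN hw h2) * itr) := by
  refine ⟨?_, ?_, ?_⟩
  · rw [itr_mul_cj]
    congr 2
    apply Units.ext
    change (mC' w)ᵀ = mC' w
    ext i j
    fin_cases i <;> fin_cases j <;> rfl
  · rw [itr_mul_cj]
    congr 2
    apply Units.ext
    change (mS')ᵀ = mS
    ext i j
    fin_cases i <;> fin_cases j <;> rfl
  · rw [itr_mul_cj]
    congr 2
    apply Units.ext
    change (mMi w)ᵀ = mN w
    ext i j
    fin_cases i <;> fin_cases j <;> rfl

theorem fld_rel {σ : F ≃+* F} (hσ : σ w = w ^ 2) : (fld σ * cj (gC hw) = cj (gC' hw) * fld σ) ∧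
    ((fld σ * cj gS : MulAut (Matrix.SpecialLinearGroup (Fin 3) F)) = cj gS * fld σ) ∧
    (fld σ * cj (gM hw h2) = cj (gN hw h2) * fld σ) := by
  have hσ2 : σ (w ^ 2) = w := by
    rw [map_pow, hσ, ← pow_mul]
    linear_combination (w ^ 2 - w) * hw
  refine ⟨?_, ?_, ?_⟩
  · rw [fld_mul_cj]
    congr 2
    apply Units.ext
    change (mC w).map (σ : F →+* F) = mC' w
    ext i j
    rw [Matrix.map_apply]
    change σ (mC w i j) = mC' w i j
    fin_cases i <;> fin_cases j <;> simp [mC, mC', hσ, hσ2, -map_pow]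
  · rw [fld_mul_cj]
    congr 2
    apply Units.ext
    change (mS).map (σ : F →+* F) = mS
    ext i j
    rw [Matrix.map_apply]
    change σ (mS i j) = mS i j
    fin_cases i <;> fin_cases j <;> simp [mS]
  · rw [fld_mul_cj]
    congr 2
    apply Units.ext
    change (mM w).map (σ : F →+* F) = mN w
    ext i j
    rw [Matrix.map_apply]
    change σ (mM w i j) = mN w i j
    fin_cases i <;> fin_cases j <;> simp [mM, mN, hσ, hσ2, -map_pow]

end mats

end Cfsg.Agent.H390.Cyc.LFour
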