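import Mathlib

/-!
# The Frobenius group `3² : 8` acting on an elementary abelian `2`-group (S3441, `A₁₀`)

If a group contains elements `c, s, t` which generate modulo the elementary abelian normal `2`-subgroup `V` a Frobenius
group `3² : 8` acting nontrivially on `V`, then it has an element whose order is divisible by `16`.
-/

set_option autoImplicit false

namespace Cfsg.Agent.H390.Cyc

open Finset

/-- multiplication by an element of order `8` of `F₉` -/
def tau (p : ZMod 3 × ZMod 3) : ZMod 3 × ZMod 3 := (p.2, p.1 + 2 * p.2)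

theorem tau_add (p q : ZMod 3 × ZMod 3) : tau (p + q) = tau p + tau q := by
  revert p q; decide +kernel

/-- the norm-like maps `p + τ p + ... + τ^(i-1) p` -/
def nm : ℕ → ZMod 3 × ZMod 3 → ZMod 3 × ZMod 3
  | 0, _ => 0
  | i + 1, p => p + tau (nm i p)

theorem nm_bij (i : ℕ) (h0 : 0 < i) (h8 : i < 8) : Function.Bijective (nm i) := by
  rw [← Finite.injective_iff_bijective]
  intro p q
  interval_cases i <;> revert p q <;> decide +kernel

theorem exists_sub (p : ZMod 3 × ZMod 3) : ∃ q, q + tau (-q) = p := by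
  revert p; decide +kernel

section ring

variable {R : Type*} [Ring R] (ρ : ZMod 3 × ZMod 3 → R) (h0 : ρ 0 = 1) (hadd : ∀ p q, ρ (p + q) = ρ p * ρ q) (T : R)
  (hT : ∀ p, T * ρ p = ρ (tau p) * T)

include h0 hadd hT

theorem pow_formula (p : ZMod 3 × ZMod 3) (i : ℕ) : (ρ p * T) ^ i = ρ (nm i p) * T ^ i := by
  induction i with
  | zero => rw [pow_zero, pow_zero, nm, h0, mul_one]
  | succ i ih =>
    rw [pow_succ', ih, nm, hadd, pow_succ']
    calc ρ p * T * (ρ (nm i p) * T ^ i) = ρ p * (T * ρ (nm i p)) * T ^ i := by simp only [mul_assoc]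
      _ = _ := by rw [hT]; simp only [mul_assoc]

theorem conj_formula (q : ZMod 3 × ZMod 3) (i : ℕ) :
    (ρ (q + tau (-q)) * T) ^ i = ρ q * T ^ i * ρ (-q) := by
  have hq : ρ (-q) * ρ q = 1 := by rw [← hadd, neg_add_cancel, h0]
  have hq' : ρ q * ρ (-q) = 1 := by rw [← hadd, add_neg_cancel, h0]
  induction i with
  | zero => rw [pow_zero, pow_zero, mul_one, hq']
  | succ i ih =>
    rw [pow_succ, ih, hadd, pow_succ, mul_assoc (ρ q) (ρ (tau (-q))) T, ← hT]
    calc ρ q * T ^ i * ρ (-q) * (ρ q * (T * ρ (-q))) = ρ q * T ^ i * (ρ (-q) * ρ q) * T * ρ (-q) := by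
          simp only [mul_assoc]
      _ = _ := by rw [hq, mul_one]; simp only [mul_assoc]

theorem rho_eq_one (h2 : (2 : R) = 0) (hs : ∑ i ∈ range 8, T ^ i = 0) (p : ZMod 3 × ZMod 3) : ρ p = 1 := by
  have h1 : ∀ p, ∑ i ∈ range 8, ρ (nm i p) * T ^ i = 0 := by
    intro p
    obtain ⟨q, rfl⟩ := exists_sub p
    have h : ∀ i ∈ range 8, ρ (nm i (q + tau (-q))) * T ^ i = ρ q * T ^ i * ρ (-q) := by
      intro i _
      rw [← pow_formula ρ h0 hadd T hT, conj_formula ρ h0 hadd T hT]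
    rw [sum_congr rfl h, ← sum_mul, ← mul_sum, hs, mul_zero, zero_mul]
  have h3 : ∑ p : ZMod 3 × ZMod 3, ∑ i ∈ range 8, ρ (nm i p) * T ^ i = 0 := sum_eq_zero fun p _ => h1 p
  rw [sum_comm, sum_range_succ'] at h3
  have h4 : ∑ p : ZMod 3 × ZMod 3, ρ (nm 0 p) * T ^ 0 = 1 := by
    have : ∀ p ∈ (univ : Finset (ZMod 3 × ZMod 3)), ρ (nm 0 p) * T ^ 0 = 1 := by
      intro p _
      rw [nm, h0, pow_zero, mul_one]
    rw [sum_congr rfl this, sum_const, card_univ, Fintype.card_prod, ZMod.card, nsmul_eq_mul, mul_one]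
    have h9 : ((3 * 3 : ℕ) : R) = 4 * 2 + 1 := by norm_num
    rw [h9, h2, mul_zero, zero_add]
  have h5 : ∀ i ∈ range 7, ∑ p : ZMod 3 × ZMod 3, ρ (nm (i + 1) p) * T ^ (i + 1) =
      (∑ p : ZMod 3 × ZMod 3, ρ p) * T ^ (i + 1) := by
    intro i hi
    rw [mem_range] at hi
    rw [← sum_mul]
    congr 1
    exact Fintype.sum_bijective (nm (i + 1)) (nm_bij (i + 1) (by omega) (by omega)) _ _ fun p => rfl
  rw [h4, sum_congr rfl h5, ← mul_sum] at h3
  have h6 : (∑ p : ZMod 3 × ZMod 3, ρ p) * (-∑ i ∈ range 7, T ^ (i + 1)) = 1 := by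
    rw [mul_neg]
    exact neg_eq_of_add_eq_zero_right h3
  have h7 : ρ p * ∑ q : ZMod 3 × ZMod 3, ρ q = ∑ q : ZMod 3 × ZMod 3, ρ q := by
    rw [mul_sum]
    exact Fintype.sum_bijective (fun q => p + q) (AddGroup.addLeft_bijective p) _ _ fun q => (hadd p q).symm
  calc ρ p = ρ p * ((∑ q : ZMod 3 × ZMod 3, ρ q) * (-∑ i ∈ range 7, T ^ (i + 1))) := by rw [h6, mul_one]
    _ = 1 := by rw [← mul_assoc, h7, h6]

end ring

section group

variable {G : Type*} [Group G] (V : Subgroup G) [V.Normal] (hc : ∀ a ∈ V, ∀ b ∈ V, a * b = b * a)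
  (h2 : ∀ a ∈ V, a ^ 2 = 1)

include hc h2

/-- Some element has order divisible by `16`. -/
theorem exists_sixteen {c s t : G ⧸ V} (hc3 : c ^ 3 = 1) (hs3 : s ^ 3 = 1) (hcs : c * s = s * c)
    (htc : t * c = s * t) (hts : t * s = c * s ^ 2 * t) (ht : t ^ 8 = 1)
    (hne : ∃ c' : G, (c' : G ⧸ V) = c ∧ ∃ v ∈ V, c' * v ≠ v * c') : ∃ g : G, (g : G ⧸ V) = t ∧ g ^ 8 ≠ 1 := by
  classical
  obtain ⟨t', rfl⟩ := QuotientGroup.mk_surjective t
  let _ : CommGroup V := { (inferInstance : Group V) with mul_comm := fun a b => Subtype.ext (hc a a.2 b b.2) }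
  by_cases ht8 : t' ^ 8 = 1
  swap
  · exact ⟨t', rfl, ht8⟩
  let φ : G →* MulAut V := MulAut.conjNormal
  have hφ : ∀ (g : G) (v : V), ((φ g v : V) : G) = g * v * g⁻¹ := fun g v => MulAut.conjNormal_apply g v
  let ψ : MulAut V →* AddMonoid.End (Additive V) :=
    { toFun := fun α => MonoidHom.toAdditive α.toMonoidHom
      map_one' := rfl
      map_mul' := fun _ _ => rfl }
  have hψ : ∀ (α : MulAut V) (v : V), ψ α (Additive.ofMul v) = Additive.ofMul (α v) := fun _ _ => rfl
  let θ : G →* AddMonoid.End (Additive V) := ψ.comp φ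
  have hθ : ∀ (g : G) (v : V), θ g (Additive.ofMul v) = Additive.ofMul (φ g v) := fun _ _ => rfl
  have hker : ∀ g ∈ V, θ g = 1 := by
    intro g hg
    apply AddMonoidHom.ext
    intro v
    obtain ⟨v, rfl⟩ := Additive.ofMul.surjective v
    change Additive.ofMul (φ g v) = Additive.ofMul v
    congr 1
    apply Subtype.ext
    rw [hφ, hc g hg v v.2, mul_inv_cancel_right]
  let Θ : G ⧸ V →* AddMonoid.End (Additive V) := QuotientGroup.lift V θ hker
  have hΘ : ∀ g : G, Θ (g : G ⧸ V) = θ g := fun g => rfl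
  let ρ : ZMod 3 × ZMod 3 → AddMonoid.End (Additive V) := fun p => Θ (c ^ p.1.val * s ^ p.2.val)
  have hcp : ∀ i j : ZMod 3, c ^ (i + j).val = c ^ i.val * c ^ j.val := by
    intro i j
    rw [← pow_add, ZMod.val_add, ← pow_eq_pow_mod _ hc3]
  have hsp : ∀ i j : ZMod 3, s ^ (i + j).val = s ^ i.val * s ^ j.val := by
    intro i j
    rw [← pow_add, ZMod.val_add, ← pow_eq_pow_mod _ hs3]
  have hcomm : ∀ i j : ℕ, c ^ i * s ^ j = s ^ j * c ^ i := fun i j => ((show Commute c s from hcs).pow_pow i j).eq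
  by_contra hcon
  push Not at hcon
  have h0 : ρ 0 = 1 := by
    change Θ (c ^ (0 : ZMod 3).val * s ^ (0 : ZMod 3).val) = 1
    rw [ZMod.val_zero, pow_zero, pow_zero, mul_one, map_one]
  have hadd : ∀ p q, ρ (p + q) = ρ p * ρ q := by
    intro p q
    change Θ (c ^ (p.1 + q.1).val * s ^ (p.2 + q.2).val) = Θ (c ^ p.1.val * s ^ p.2.val) * Θ (c ^ q.1.val * s ^ q.2.val)
    rw [← map_mul, hcp, hsp]
    congr 1
    calc c ^ p.1.val * c ^ q.1.val * (s ^ p.2.val * s ^ q.2.val)
        = c ^ p.1.val * (c ^ q.1.val * s ^ p.2.val) * s ^ q.2.val := by simp only [mul_assoc]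
      _ = _ := by rw [hcomm]; simp only [mul_assoc]
  have hT : ∀ p, Θ (t' : G ⧸ V) * ρ p = ρ (tau p) * Θ (t' : G ⧸ V) := by
    intro p
    change Θ _ * Θ (c ^ p.1.val * s ^ p.2.val) = Θ (c ^ p.2.val * s ^ (p.1 + 2 * p.2).val) * Θ _
    rw [← map_mul, ← map_mul]
    congr 1
    have e1 : ∀ i : ℕ, (t' : G ⧸ V) * c ^ i = s ^ i * t' := by
      intro i
      induction i with
      | zero => simp
      | succ i ih => rw [pow_succ, ← mul_assoc, ih, mul_assoc, htc, pow_succ, mul_assoc]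
    have e2 : ∀ i : ℕ, (t' : G ⧸ V) * s ^ i = c ^ i * s ^ (2 * i) * t' := by
      intro i
      induction i with
      | zero => simp
      | succ i ih =>
        rw [pow_succ, ← mul_assoc, ih, mul_assoc, hts, show 2 * (i + 1) = 2 * i + 2 by ring, pow_add s, pow_succ c]
        calc c ^ i * s ^ (2 * i) * (c * s ^ 2 * t') = c ^ i * (s ^ (2 * i) * c ^ 1) * (s ^ 2 * t') := by
              rw [pow_one]; simp only [mul_assoc]
          _ = _ := by rw [← hcomm, pow_one]; simp only [mul_assoc]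
    rw [← mul_assoc, e1, mul_assoc, e2, hsp]
    have h3 : s ^ (2 * p.2 : ZMod 3).val = s ^ (2 * p.2.val) := by
      have : (2 * p.2 : ZMod 3).val = (2 * p.2.val) % 3 := by
        rw [ZMod.val_mul]; rfl
      rw [this, ← pow_eq_pow_mod _ hs3]
    rw [h3]
    calc s ^ p.1.val * (c ^ p.2.val * s ^ (2 * p.2.val) * t') = (s ^ p.1.val * c ^ p.2.val) * s ^ (2 * p.2.val) * t' := by
          simp only [mul_assoc]
      _ = _ := by rw [← hcomm]; simp only [mul_assoc]
  have h22 : (2 : AddMonoid.End (Additive V)) = 0 := by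
    apply AddMonoidHom.ext
    intro v
    obtain ⟨v, rfl⟩ := Additive.ofMul.surjective v
    have : (2 : AddMonoid.End (Additive V)) = 1 + 1 := by norm_num
    rw [this]
    change Additive.ofMul v + Additive.ofMul v = 0
    have h3 : v * v = 1 := Subtype.ext (by have := h2 v v.2; rwa [pow_two] at this)
    exact congrArg Additive.ofMul h3
  have hsum : ∑ i ∈ range 8, Θ (t' : G ⧸ V) ^ i = 0 := by
    apply AddMonoidHom.ext
    intro v
    obtain ⟨v, rfl⟩ := Additive.ofMul.surjective v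
    have hpow : ∀ k : ℕ, ((v : G) * t') ^ k = ((∏ i ∈ range k, φ (t' ^ i) v : V) : G) * t' ^ k := by
      intro k
      induction k with
      | zero => simp
      | succ k ih =>
        rw [pow_succ, ih, prod_range_succ, Subgroup.coe_mul, hφ, pow_succ]
        group
    have h3 : (∏ i ∈ range 8, φ (t' ^ i) v : V) = 1 := by
      apply Subtype.ext
      have h4 := hpow 8
      rw [ht8, mul_one, hcon ((v : G) * t') (by
        rw [QuotientGroup.mk_mul, (QuotientGroup.eq_one_iff (v : G)).2 v.2, one_mul])] at h4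
      exact h4.symm
    have h5 : ∀ i, (Θ (t' : G ⧸ V) ^ i) (Additive.ofMul v) = Additive.ofMul (φ (t' ^ i) v) := by
      intro i
      rw [hΘ, ← map_pow, hθ]
    have hk : ∀ (s : Finset ℕ) (F : ℕ → AddMonoid.End (Additive V)) (w : Additive V),
        (∑ i ∈ s, F i) w = ∑ i ∈ s, F i w := by
      intro s F w
      induction s using Finset.induction_on with
      | empty => rfl
      | insert a s ha ih => rw [sum_insert ha, sum_insert ha, ← ih]; rfl
    have h6 := hk (range 8) (fun i => Θ (t' : G ⧸ V) ^ i) (Additive.ofMul v)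
    rw [sum_congr rfl fun i _ => h5 i, ← ofMul_prod, h3, ofMul_one] at h6
    exact h6
  have hone := rho_eq_one ρ h0 hadd _ hT h22 hsum (1, 0)
  obtain ⟨c', hc', v, hv, hvc⟩ := hne
  apply hvc
  have h6 : ρ (1, 0) = θ c' := by
    change Θ (c ^ (1 : ZMod 3).val * s ^ (0 : ZMod 3).val) = θ c'
    rw [ZMod.val_zero, pow_zero, mul_one, show (1 : ZMod 3).val = 1 from rfl, pow_one, ← hc']
    rfl
  rw [h6] at hone
  have h7 := congrArg (fun f : AddMonoid.End (Additive V) => f (Additive.ofMul ⟨v, hv⟩)) hone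
  have h8 : φ c' ⟨v, hv⟩ = ⟨v, hv⟩ := Additive.ofMul.injective h7
  have h9 := congrArg Subtype.val h8
  rw [hφ] at h9
  exact mul_inv_eq_iff_eq_mul.1 h9

end group

end Cfsg.Agent.H390.Cyc
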