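import Cfsg.Agent.H380.TenRec.Main
import Cfsg.Agent.H390.Cyc.Oct
import Cfsg.Agent.H390.Cyc.LFourX
import Cfsg.Agent.H390.Cyc.LFourLift

/-!
# Groups with the element orders of `A₁₀`: the elements of order `7` (S3441)

The arguments of `H380/TenRec/Ctx`, without the hypothesis on the order of the group.
-/

set_option autoImplicit false

namespace Cfsg.Agent.H390.Cyc

open Cfsg.Agent.H380.TenRec

section frattini

variable {X : Type*} [Group X] [Finite X] (hO : Om X) {S : Subgroup X} [hn : S.Normal] (h49 : ¬ 49 ∣ Nat.card S)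
  {x : X} (hxS : x ∈ S) (hx : orderOf x = 7)

include h49 hxS hx

theorem frat : S ⊔ Subgroup.normalizer ((Subgroup.zpowers x : Subgroup X) : Set X) = ⊤ := by
  have hp7 : Nat.Prime 7 := by norm_num
  have := Fact.mk hp7
  have hxo : orderOf (⟨x, hxS⟩ : S) = 7 := by rw [← Subgroup.orderOf_coe]; exact hx
  have h7 : 7 ∣ Nat.card S := by rw [← hxo]; exact orderOf_dvd_natCard _
  have hfac : (Nat.card S).factorization 7 = 1 := by
    apply le_antisymm
    · by_contra hlt
      push Not at hlt
      exact h49 ((hp7.pow_dvd_iff_le_factorization Nat.card_pos.ne').2 hlt)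
    · exact (hp7.dvd_iff_one_le_factorization Nat.card_pos.ne').1 h7
  let X : Sylow 7 S := Sylow.ofCard (Subgroup.zpowers ⟨x, hxS⟩) (by rw [hfac, Nat.card_zpowers, hxo, pow_one])
  have h1 := Sylow.normalizer_sup_eq_top X
  have h2 : (X : Subgroup S).map S.subtype = Subgroup.zpowers x := by
    change (Subgroup.zpowers (⟨x, hxS⟩ : S)).map S.subtype = _
    rw [MonoidHom.map_zpowers]; rfl
  rw [h2, sup_comm] at h1
  exact h1

theorem card_norm : Nat.card (Subgroup.normalizer ((Subgroup.zpowers x : Subgroup X) : Set X)) ∣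
    6 * Nat.card (Subgroup.centralizer ((Subgroup.zpowers x : Subgroup X) : Set X)) := by
  have h1 := card_normalizer_dvd (Subgroup.zpowers x)
  rwa [Nat.card_zpowers, hx, show Nat.totient 7 = 6 by decide] at h1

omit hn h49 hxS in
include hO in
theorem not_dvd_cent {q : ℕ} (hq : q = 2 ∨ q = 5) :
    ¬ q ∣ Nat.card (Subgroup.centralizer ((Subgroup.zpowers x : Subgroup X) : Set X)) := by
  intro hd
  have hqp : q.Prime := by rcases hq with rfl | rfl <;> norm_num
  have := Fact.mk hqp
  obtain ⟨c, hc⟩ := exists_prime_orderOf_dvd_card' q hd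
  have hcr : Commute (c : X) x := (Subgroup.mem_centralizer_iff.1 c.2 x (Subgroup.mem_zpowers x)).symm
  have hc' : orderOf (c : X) = q := by rw [Subgroup.orderOf_coe, hc]
  rcases hq with rfl | rfl
  · exact hO.false_of_commute hcr (m := 2) (n := 7) (by rw [hc']) (by rw [hx]) (by norm_num) (by decide)
  · exact hO.false_of_commute hcr (m := 5) (n := 7) (by rw [hc']) (by rw [hx]) (by norm_num) (by decide)

include hO in
theorem norm_four : ¬ 4 ∣ Nat.card (Subgroup.normalizer ((Subgroup.zpowers x : Subgroup X) : Set X)) := by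
  intro h1
  have h2 := h1.trans (card_norm h49 hxS hx)
  apply not_dvd_cent hO hx (Or.inl rfl)
  have h3 : 2 * 2 ∣ 2 * (3 * Nat.card (Subgroup.centralizer ((Subgroup.zpowers x : Subgroup X) : Set X))) := by
    rw [← mul_assoc]; exact h2
  exact Nat.Coprime.dvd_of_dvd_mul_left (by norm_num) (Nat.dvd_of_mul_dvd_mul_left (by norm_num) h3)

include hO in
theorem norm_five : ¬ 5 ∣ Nat.card (Subgroup.normalizer ((Subgroup.zpowers x : Subgroup X) : Set X)) := by
  intro h1
  exact not_dvd_cent hO hx (Or.inr rfl)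
    (Nat.Coprime.dvd_of_dvd_mul_left (by norm_num) (h1.trans (card_norm h49 hxS hx)))

theorem index_dvd : S.index ∣
    Nat.card (Subgroup.normalizer ((Subgroup.zpowers x : Subgroup X) : Set X)) := by
  exact card_quot_dvd S _ (frat h49 hxS hx)

include hO in
theorem index_four : ¬ 4 ∣ S.index := fun h1 => norm_four hO h49 hxS hx (h1.trans (index_dvd h49 hxS hx))

include hO in
theorem index_five : ¬ 5 ∣ S.index := fun h1 => norm_five hO h49 hxS hx (h1.trans (index_dvd h49 hxS hx))

include hO in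
/-- If the index of `S` is even, there is an element inverting `x`. -/
theorem exists_inv (h2 : 2 ∣ S.index) : ∃ t : X, t * x * t⁻¹ = x⁻¹ := by
  have hp7 : Nat.Prime 7 := by norm_num
  have := Fact.mk Nat.prime_two
  obtain ⟨t, ht⟩ := exists_prime_orderOf_dvd_card' 2 (h2.trans (index_dvd h49 hxS hx))
  have ht2 : orderOf (t : X) = 2 := by rw [Subgroup.orderOf_coe, ht]
  have htx : (t : X) * x * (t : X)⁻¹ ∈ Subgroup.zpowers x :=
    (Subgroup.mem_normalizer_iff.1 t.2 x).1 (Subgroup.mem_zpowers x)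
  obtain ⟨k, hk⟩ := Subgroup.mem_zpowers_iff.1 htx
  have htt : (t : X) * t = 1 := by rw [← pow_two, ← ht2]; exact pow_orderOf_eq_one _
  have hti : (t : X)⁻¹ = t := inv_eq_of_mul_eq_one_left htt
  have h1 : x ^ (k * k) = x ^ (1 : ℤ) := by
    rw [zpow_mul, hk, conj_zpow, hk, hti, zpow_one]
    calc (t : X) * (t * x * t) * t = (t * t) * x * (t * t) := by group
      _ = x := by rw [htt]; group
  rw [zpow_eq_zpow_iff_modEq, hx] at h1
  refine ⟨t, ?_⟩
  have h3 : (7 : ℤ) ∣ (k - 1) * (k + 1) := by
    have := h1.symm.dvd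
    have h4 : k * k - 1 = (k - 1) * (k + 1) := by ring
    rwa [h4] at this
  have h7i : Prime (7 : ℤ) := by
    have := Nat.prime_iff_prime_int.1 hp7
    exact_mod_cast this
  rcases h7i.dvd_or_dvd h3 with h4 | h4
  · exfalso
    have h5 : x ^ k = x ^ (1 : ℤ) := by
      rw [zpow_eq_zpow_iff_modEq, hx]
      exact (Int.modEq_iff_dvd.2 (by
        have : (1 : ℤ) - k = -(k - 1) := by ring
        rw [this]; exact (dvd_neg.2 h4)))
    rw [hk, zpow_one, mul_inv_eq_iff_eq_mul] at h5
    exact hO.false_of_commute (show Commute (t : X) x from h5) (m := 2) (n := 7) (by rw [ht2]) (by rw [hx])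
      (by norm_num) (by decide)
  · rw [← hk, ← zpow_neg_one, zpow_eq_zpow_iff_modEq, hx]
    exact (Int.modEq_iff_dvd.2 (by
      have : (-1 : ℤ) - k = -(k + 1) := by ring
      rw [this]; exact (dvd_neg.2 h4)))

end frattini

end Cfsg.Agent.H390.Cyc
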