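import Cfsg.Agent.H380.TenRec.Main
import Cfsg.Agent.H188.Der.Sug

/-!
# `U₃(5)` (S3441, `A₁₀`)

A group of order `16` with an element of order `8` is centralized modulo `3'`: a `3`-element normalizing it
centralizes an element of order `8`. So `U₃(5) : 3` has an element of order `24`.
-/

set_option autoImplicit false

namespace Cfsg.Agent.H390.Cyc

open Cfsg.Agent.H380.TenRec

/-- A group of order `16` which contains two cyclic subgroups of order `8` contains an element outside the first one of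
order at most `4`. -/
theorem exists_small {T : Type*} [Group T] [Finite T] (hT : Nat.card T = 16) {c x : T} (hc : orderOf c = 8)
    (hx : x ∉ Subgroup.zpowers c) (hx8 : x ^ 8 = 1) : ∃ y : T, y ∉ Subgroup.zpowers c ∧ y ^ 4 = 1 := by
  have hidx : (Subgroup.zpowers c).index = 2 := by
    have h := (Subgroup.zpowers c).card_mul_index
    rw [Nat.card_zpowers, hc, hT] at h
    omega
  have hn : (Subgroup.zpowers c).Normal := Subgroup.normal_of_index_eq_two hidx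
  have hx2 : x ^ 2 ∈ Subgroup.zpowers c := by
    have := Subgroup.sq_mem_of_index_two hidx x
    exact this
  obtain ⟨m, hm⟩ := Subgroup.mem_zpowers_iff.1 hx2
  obtain ⟨k, hk⟩ := Subgroup.mem_zpowers_iff.1 (hn.conj_mem c (Subgroup.mem_zpowers c) x)
  -- `x² = c^m`, `x c x⁻¹ = c^k`
  by_cases h4 : x ^ 4 = 1
  · exact ⟨x, hx, h4⟩
  have hc8 : ∀ {a b : ℤ}, c ^ a = c ^ b ↔ (8 : ℤ) ∣ b - a := by
    intro a b
    rw [zpow_eq_zpow_iff_modEq, hc, Int.modEq_iff_dvd]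
    rfl
  have hm4 : ¬ (4 : ℤ) ∣ m := by
    rintro ⟨l, rfl⟩
    apply h4
    rw [show 4 = 2 * 2 from rfl, pow_mul, ← hm, ← zpow_natCast, ← zpow_mul]
    rw [← zpow_zero c, hc8]
    exact ⟨-l, by push_cast; ring⟩
  have hm2 : (2 : ℤ) ∣ m := by
    have h1 : c ^ (m * 4) = c ^ (0 : ℤ) := by
      rw [zpow_mul, hm, zpow_zero, ← zpow_natCast, ← zpow_mul]
      rw [show ((2 : ℕ) : ℤ) * 4 = ((8 : ℕ) : ℤ) by norm_num, zpow_natCast, hx8]
    rw [hc8] at h1
    omega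
  have hconj : ∀ i : ℤ, x * c ^ i * x⁻¹ = c ^ (k * i) := by
    intro i
    rw [← conj_zpow, ← hk, ← zpow_mul]
  have hkm : (8 : ℤ) ∣ k * m - m := by
    have h1 := hconj m
    rw [hm] at h1
    have h2 : x * x ^ 2 * x⁻¹ = x ^ 2 := by
      rw [← pow_succ', pow_succ, mul_inv_cancel_right]
    rw [h2, ← hm, hc8] at h1
    exact h1
  obtain ⟨n, hn'⟩ := hm2
  have hn2 : n % 2 = 1 := by omega
  have hk4 : (4 : ℤ) ∣ k - 1 := by
    have h1 : (8 : ℤ) ∣ 2 * (n * (k - 1)) := by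
      rw [hn'] at hkm
      have e : k * (2 * n) - 2 * n = 2 * (n * (k - 1)) := by ring
      rwa [e] at hkm
    have h2 : (4 : ℤ) ∣ n * (k - 1) := by
      obtain ⟨l, hl⟩ := h1
      exact ⟨l, by linarith⟩
    have h3 : IsCoprime (4 : ℤ) n := by
      rw [Int.isCoprime_iff_gcd_eq_one]
      have h4' : Int.gcd 2 n = 1 := by
        rw [Int.gcd_comm, ← Int.isCoprime_iff_gcd_eq_one]
        exact ⟨1, -(n / 2), by omega⟩
      have h5 : IsCoprime (2 : ℤ) n := Int.isCoprime_iff_gcd_eq_one.2 h4'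
      have h6 : IsCoprime ((2 : ℤ) * 2) n := h5.mul_left h5
      exact Int.isCoprime_iff_gcd_eq_one.1 h6
    exact h3.dvd_of_dvd_mul_left h2
  refine ⟨c * x, fun h => hx ?_, ?_⟩
  · have := Subgroup.mul_mem _ (Subgroup.inv_mem _ (Subgroup.mem_zpowers c)) h
    rwa [inv_mul_cancel_left] at this
  · have e1 : (c * x) ^ 2 = c ^ (1 + k + m) := by
      have h1 : (c * x) ^ 2 = c ^ (1 : ℤ) * (x * c ^ (1 : ℤ) * x⁻¹) * x ^ 2 := by
        rw [zpow_one, pow_two, pow_two]; group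
      rw [h1, hconj, mul_one, ← hm, ← zpow_add, ← zpow_add]
    rw [show 4 = 2 * 2 from rfl, pow_mul, e1, ← zpow_natCast, ← zpow_mul, ← zpow_zero c, hc8]
    push_cast
    omega

/-- An automorphism of odd order of a cyclic group of order `8` is trivial. -/
theorem fix_of_mem {T : Type*} [Group T] {c : T} (hc : orderOf c = 8) (β : MulAut T) {n : ℕ} (hn : Odd n)
    (hβ : β ^ n = 1) (hm : β c ∈ Subgroup.zpowers c) : β c = c := by
  obtain ⟨k, hk⟩ := Subgroup.mem_zpowers_iff.1 hm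
  have hc8 : ∀ {a b : ℤ}, c ^ a = c ^ b ↔ (8 : ℤ) ∣ b - a := by
    intro a b
    rw [zpow_eq_zpow_iff_modEq, hc, Int.modEq_iff_dvd]
    rfl
  have hpow : ∀ i : ℕ, (β ^ i) c = c ^ (k ^ i) := by
    intro i
    induction i with
    | zero => rw [pow_zero, pow_zero, zpow_one]; rfl
    | succ i ih => rw [pow_succ', MulAut.mul_apply, ih, map_zpow, ← hk, ← zpow_mul, pow_succ']
  have h1 := hpow n
  rw [hβ] at h1
  have h2 : c ^ (1 : ℤ) = c ^ (k ^ n) := by rw [zpow_one]; exact h1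
  rw [hc8] at h2
  have hkodd : k % 2 = 1 := by
    by_contra h
    have h3 : (2 : ℤ) ∣ k := by omega
    have h4 : (2 : ℤ) ∣ k ^ n := dvd_pow h3 (by rintro rfl; exact absurd hn (by decide))
    omega
  obtain ⟨j, hj⟩ := hn
  have h5 : (8 : ℤ) ∣ k ^ 2 - 1 := by
    obtain ⟨l, hl⟩ : ∃ l, k = 2 * l + 1 := ⟨k / 2, by omega⟩
    have h6 : k ^ 2 - 1 = 4 * (l * (l + 1)) := by rw [hl]; ring
    obtain ⟨r, hr⟩ := Int.even_mul_succ_self l
    rw [h6, hr]
    exact ⟨r, by ring⟩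
  have h6 : (8 : ℤ) ∣ k ^ (2 * j) - 1 := by
    rw [pow_mul]
    have := sub_dvd_pow_sub_pow (k ^ 2) 1 j
    rw [one_pow] at this
    exact h5.trans this
  have h7 : (8 : ℤ) ∣ k - 1 := by
    have h8 : k ^ n - 1 = k * (k ^ (2 * j) - 1) + (k - 1) := by rw [hj]; ring
    rw [h8] at h2
    exact (dvd_add_right (h6.mul_left k)).1 h2
  rw [← hk]
  conv_rhs => rw [← zpow_one c]
  rw [hc8]
  obtain ⟨l, hl⟩ := h7
  exact ⟨-l, by linarith⟩

/-- **Automorphisms of odd order of a group of order `16` with an element of order `8`.** -/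
theorem fix_eight {T : Type*} [Group T] [Finite T] (hT : Nat.card T = 16) {c : T} (hc : orderOf c = 8) (β : MulAut T)
    {n : ℕ} (hn : Odd n) (hβ : β ^ n = 1) : β c = c := by
  have hidx : (Subgroup.zpowers c).index = 2 := by
    have h := (Subgroup.zpowers c).card_mul_index
    rw [Nat.card_zpowers, hc, hT] at h
    omega
  have hc8 : ∀ {a b : ℤ}, c ^ a = c ^ b ↔ (8 : ℤ) ∣ b - a := by
    intro a b
    rw [zpow_eq_zpow_iff_modEq, hc, Int.modEq_iff_dvd]
    rfl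
  by_cases h1 : β c ∈ Subgroup.zpowers c
  · exact fix_of_mem hc β hn hβ h1
  by_cases h2 : (β ^ 2) c ∈ Subgroup.zpowers c
  · have h3 : (β ^ 2) c = c := fix_of_mem hc (β ^ 2) hn (by rw [← pow_mul, mul_comm, pow_mul, hβ, one_pow]) h2
    have h4 : ∀ i : ℕ, ((β ^ 2) ^ i) c = c := by
      intro i
      induction i with
      | zero => rfl
      | succ i ih => rw [pow_succ', MulAut.mul_apply, ih, h3]
    obtain ⟨j, hj⟩ := hn
    have h5 := h4 (j + 1)
    rw [← pow_mul, show 2 * (j + 1) = n + 1 by omega, pow_succ, hβ, one_mul] at h5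
    exact h5
  exfalso
  -- `D = ⟨c²⟩`
  have hD8 : ∀ x : T, x ^ 8 = 1 → x ^ 2 ∈ Subgroup.zpowers (c ^ 2) := by
    intro x hx
    obtain ⟨m, hm⟩ := Subgroup.mem_zpowers_iff.1 (Subgroup.sq_mem_of_index_two hidx x)
    have h3 : c ^ (m * 4) = c ^ (0 : ℤ) := by
      rw [zpow_mul, hm, zpow_zero, ← zpow_natCast, ← zpow_mul]
      rw [show ((2 : ℕ) : ℤ) * 4 = ((8 : ℕ) : ℤ) by norm_num, zpow_natCast, hx]
    rw [hc8] at h3
    have h4 : (2 : ℤ) ∣ m := by omega
    obtain ⟨l, hl⟩ := h4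
    refine Subgroup.mem_zpowers_iff.2 ⟨l, ?_⟩
    rw [← hm, hl, ← zpow_natCast, ← zpow_mul]
    rfl
  have hβ8 : ∀ i : ℕ, ((β ^ i) c) ^ 8 = 1 := by
    intro i
    rw [← map_pow, ← hc, pow_orderOf_eq_one, map_one]
  have hDinv : ∀ i : ℕ, ∀ d ∈ Subgroup.zpowers (c ^ 2), (β ^ i) d ∈ Subgroup.zpowers (c ^ 2) := by
    intro i d hd
    obtain ⟨j, rfl⟩ := Subgroup.mem_zpowers_iff.1 hd
    rw [map_zpow, map_pow]
    exact Subgroup.zpow_mem _ (hD8 _ (hβ8 i)) j
  have hDinv' : ∀ i : ℕ, ∀ d : T, (β ^ i) d ∈ Subgroup.zpowers (c ^ 2) → d ∈ Subgroup.zpowers (c ^ 2) := by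
    intro i d hd
    have hfin : 0 < n := hn.pos
    have h3 : (β ^ (i * n - i)) ((β ^ i) d) = d := by
      rw [← MulAut.mul_apply, ← pow_add, Nat.sub_add_cancel (Nat.le_mul_of_pos_right i hfin), mul_comm, pow_mul, hβ, one_pow]
      rfl
    rw [← h3]
    exact hDinv _ _ hd
  obtain ⟨y, hy, hy4⟩ := exists_small hT hc h1 (by have := hβ8 1; rwa [pow_one] at this)
  have hDC : Subgroup.zpowers (c ^ 2) ≤ Subgroup.zpowers c := by
    rw [Subgroup.zpowers_le]
    exact Subgroup.npow_mem_zpowers c 2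
  -- the elements of `T` outside `C`
  have key : ∀ i : ℕ, (β ^ i) c ∉ Subgroup.zpowers c → ∃ m : ℤ, y⁻¹ * (β ^ i) c = c ^ (2 * m + 1) := by
    intro i hi
    have h3 : y⁻¹ * (β ^ i) c ∈ Subgroup.zpowers c := by
      rw [Subgroup.mul_mem_iff_of_index_two hidx]
      exact iff_of_false (fun h => hy (by rwa [Subgroup.inv_mem_iff] at h)) hi
    obtain ⟨m, hm⟩ := Subgroup.mem_zpowers_iff.1 h3
    rcases Int.even_or_odd' m with ⟨l, hl | hl⟩
    · exfalso
      have hd : y⁻¹ * (β ^ i) c ∈ Subgroup.zpowers (c ^ 2) := by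
        rw [← hm, hl]
        refine Subgroup.mem_zpowers_iff.2 ⟨l, ?_⟩
        rw [← zpow_natCast, ← zpow_mul]; rfl
      -- `y = (β^i) (c d)`
      have hfin : 0 < n := hn.pos
      obtain ⟨d, hd'⟩ := (β ^ i).surjective (y⁻¹ * (β ^ i) c)
      have hdD : d ∈ Subgroup.zpowers (c ^ 2) := hDinv' i d (by rw [hd']; exact hd)
      have hyd : y = (β ^ i) (c * d⁻¹) := by
        rw [map_mul, map_inv, hd']; group
      obtain ⟨r, hr⟩ := Subgroup.mem_zpowers_iff.1 hdD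
      have h5 : (c * d⁻¹) ^ 4 = c ^ (4 : ℤ) := by
        have h6 : c * d⁻¹ = c ^ (1 - 2 * r) := by
          rw [← hr, ← zpow_natCast c 2, ← zpow_mul, ← zpow_neg, ← zpow_one_add]
          congr 1
        rw [h6, ← zpow_natCast, ← zpow_mul, hc8]
        exact ⟨r, by push_cast; ring⟩
      have h7 : c ^ (4 : ℤ) = c ^ (0 : ℤ) := by
        rw [zpow_zero]
        apply (β ^ i).injective
        rw [map_one, ← h5, map_pow, ← hyd, hy4]
      rw [hc8] at h7
      omega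
    · exact ⟨l, by rw [← hm, hl]⟩
  obtain ⟨m1, hm1⟩ := key 1 (by rwa [pow_one])
  obtain ⟨m2, hm2⟩ := key 2 h2
  rw [pow_one] at hm1
  have h8 : (β ^ 1) (c⁻¹ * β c) ∈ Subgroup.zpowers (c ^ 2) := by
    have h9 : (β ^ 1) (c⁻¹ * β c) = (β c)⁻¹ * (β ^ 2) c := by
      rw [pow_one, map_mul, map_inv, pow_two]; rfl
    have h10 : (β c)⁻¹ * (β ^ 2) c = (y⁻¹ * β c)⁻¹ * (y⁻¹ * (β ^ 2) c) := by group
    rw [h9, h10, hm1, hm2, ← zpow_neg, ← zpow_add]
    refine Subgroup.mem_zpowers_iff.2 ⟨m2 - m1, ?_⟩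
    rw [← zpow_natCast c 2, ← zpow_mul]
    congr 1
    push_cast
    ring
  have h11 := hDinv' 1 _ h8
  apply h1
  have := Subgroup.mul_mem _ (Subgroup.mem_zpowers c) (hDC h11)
  rwa [mul_inv_cancel_left] at this

end Cfsg.Agent.H390.Cyc
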